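import Groth.Agent.PullFlat.Step
import Groth.Agent.ModGroth.SiteStalk
import Mathlib.Algebra.Homology.ShortComplex.ModuleCat

/-!
# The inverse image of a flat module is flat
-/

universe u

open CategoryTheory Limits Opposite MonoidalCategory
open scoped TensorProduct

namespace Groth.Agent.PullFlat

open Groth.Agent.ModGroth

variable {C D : Type u} [SmallCategory C] [SmallCategory D] {J : GrothendieckTopology C}
  {K : GrothendieckTopology D} {O_C : Sheaf J CommRingCat.{u}} {O_D : Sheaf K CommRingCat.{u}}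
  (f : ModSite.RMor O_C O_D) (M : ModSite.Mod O_D)

lemma exists_sum_tmul {R : Type*} [CommRing R] {N : Type*} [AddCommGroup N] [Module R N] {X : Type*}
    (z : N ⊗[R] (X →₀ R)) :
    ∃ (ι : Finset (X × N)), z = ∑ p ∈ ι, p.2 ⊗ₜ[R] Finsupp.single p.1 (1 : R) := by
  classical
  let e := TensorProduct.finsuppScalarRight R R N X
  refine ⟨(e z).support.image fun x => (x, e z x), ?_⟩
  rw [Finset.sum_image fun a _ b _ h => congrArg Prod.fst h]
  apply e.injective
  refine Eq.trans ?_ (map_sum e _ _).symm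
  simp only [e, TensorProduct.finsuppScalarRight_apply_tmul, Finsupp.sum_single_index, zero_smul,
    Finsupp.single_zero, one_smul]
  exact (Finsupp.sum_single (TensorProduct.finsuppScalarRight R R N X z)).symm

lemma exact_app (V : Cᵒᵖ) :
    Function.Exact ((relMap f M).app V).hom ((proj f M).app V).hom := by
  let S := ShortComplex.mk (relMap f M) (proj f M) (cokernel.condition _)
  have hS : S.Exact := S.exact_of_g_is_cokernel (cokernelIsCokernel _)
  have := hS.map (PresheafOfModules.evaluation _ V)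
  exact LinearMap.exact_iff.2 ((ShortComplex.moduleCat_exact_iff_range_eq_ker _).1 this).symm

variable {f M}

section Push

variable (B : PM O_C) {V W : C} (k : W ⟶ V) {e : D} (w : W ⟶ f.fn.obj e)
  (μ : ∀ ⦃d : D⦄, (V ⟶ f.fn.obj d) → Ms M d → Ms M e)

/-- Scalars from `O_D e` on sections over `W`. -/
@[reducible] noncomputable def modW : Module (O_D.obj.obj (op e)) (B.obj (op W)) :=
  Module.compHom _ (psi f w)

/-- The target of the evaluation at a cone. -/
abbrev Tgt : Type u :=
  @TensorProduct (O_D.obj.obj (op e)) _ (B.obj (op W)) (Ms M e) _ _ (modW B w) _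

/-- `c ⊗ x` in the target. -/
noncomputable def tt (c : B.obj (op W)) (x : Ms M e) : Tgt (M := M) B w :=
  letI := modW B w; c ⊗ₜ[O_D.obj.obj (op e)] x

lemma tt_add (c c' : B.obj (op W)) (x : Ms M e) : tt B w (c + c') x = tt B w c x + tt B w c' x :=
  letI := modW B w; TensorProduct.add_tmul c c' x

lemma tt_add' (c : B.obj (op W)) (x x' : Ms M e) : tt B w c (x + x') = tt B w c x + tt B w c x' :=
  letI := modW B w; TensorProduct.tmul_add c x x'

lemma tt_smul (r : O_D.obj.obj (op e)) (c : B.obj (op W)) (x : Ms M e) :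
    tt B w c (r • x) = tt B w (psi f w r • c) x :=
  letI := modW B w; (TensorProduct.smul_tmul r c x).symm

/-- The evaluation at a cone, before passing to the tensor product. -/
noncomputable def push₀ : B.obj (op V) →+ ((FG f M).obj (op V) →+ Tgt (M := M) B w) :=
  AddMonoidHom.mk' (fun b => Finsupp.liftAddHom fun x => AddMonoidHom.mk'
      (fun c : O_C.obj.obj (op V) => tt B w (res B k.op (c • b)) (μ x.2.1 x.2.2))
      fun c c' => by rw [add_smul, map_add, tt_add])
    fun b b' => by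
      refine Finsupp.addHom_ext fun x c => ?_
      refine (Finsupp.liftAddHom_apply_single _ x c).trans ?_
      refine Eq.trans ?_ (AddMonoidHom.add_apply _ _ _).symm
      rw [Finsupp.liftAddHom_apply_single, Finsupp.liftAddHom_apply_single]
      exact (congrArg (fun y => tt B w (res B k.op y) (μ x.2.1 x.2.2)) (smul_add c b b')).trans
        ((congrArg (tt B w · _) (map_add _ _ _)).trans (tt_add B w _ _ _))

lemma push₀_single (b : B.obj (op V)) (x : (gen f M).obj (op V)) (c : O_C.obj.obj (op V)) :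
    push₀ B k w μ b (Finsupp.single x c) = tt B w (res B k.op (c • b)) (μ x.2.1 x.2.2) :=
  Finsupp.liftAddHom_apply_single _ x c

/-- The evaluation at a cone. -/
noncomputable def push :
    B.obj (op V) ⊗[O_C.obj.obj (op V)] (FG f M).obj (op V) →+ Tgt (M := M) B w :=
  TensorProduct.liftAddHom (push₀ B k w μ) fun r b s => by
    induction s using Finsupp.induction_linear with
    | zero => exact (map_zero _).trans ((congrArg (push₀ B k w μ b) (smul_zero (A := (FG f M).obj (op V)) r)).trans (map_zero _)).symm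
    | add s s' h h' =>
      refine (map_add (push₀ B k w μ (r • b)) s s').trans ?_
      refine (congrArg₂ (· + ·) h h').trans ?_
      exact (map_add (push₀ B k w μ b) _ _).symm.trans (congrArg _ (smul_add (A := (FG f M).obj (op V)) r s s').symm)
    | single x c =>
      refine (push₀_single B k w μ _ x c).trans (Eq.trans ?_
        ((congrArg (push₀ B k w μ b) (Finsupp.smul_single' r x c)).trans
          (push₀_single B k w μ b x _)).symm)
      rw [smul_smul, mul_comm c r]

lemma push_dl (b : B.obj (op V)) {d : D} (v : V ⟶ f.fn.obj d) (m : Ms M d) :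
    push B k w μ (b ⊗ₜ[O_C.obj.obj (op V)] dl f M v m) = tt B w (res B k.op b) (μ v m) :=
  (push₀_single B k w μ b _ 1).trans (by rw [one_smul])

lemma push_add {d : D} (v : V ⟶ f.fn.obj d)
    (h : ∀ m m', μ v (m + m') = μ v m + μ v m') (b : B.obj (op V)) (m m' : Ms M d) :
    push B k w μ (b ⊗ₜ[O_C.obj.obj (op V)] relVal f M (Rel.add d v m m')) = 0 := by
  simp only [relVal, TensorProduct.tmul_sub, map_sub, push_dl, h, tt_add']
  abel

lemma push_smul {d : D} (v : V ⟶ f.fn.obj d) (p : e ⟶ d) (hp : w ≫ f.fn.map p = k ≫ v)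
    (h : ∀ m, μ v m = res ((fg O_D).obj M) p.op m) (b : B.obj (op V)) (r : O_D.obj.obj (op d))
    (m : Ms M d) :
    push B k w μ (b ⊗ₜ[O_C.obj.obj (op V)] relVal f M (Rel.smul d v r m)) = 0 := by
  simp only [relVal, TensorProduct.tmul_sub, map_sub, push_dl]
  rw [← TensorProduct.smul_tmul, push_dl, sub_eq_zero, h, h, res_smul, tt_smul]
  refine congrArg (tt B w · _) ?_
  rw [← psi_map, hp, psi_comp, res_smul]

lemma push_nat {d d' : D} (a : d ⟶ d') (v : V ⟶ f.fn.obj d) (p : e ⟶ d) (p' : e ⟶ d')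
    (hpp : p ≫ a = p') (h : ∀ m, μ v m = res ((fg O_D).obj M) p.op m)
    (h' : ∀ m, μ (v ≫ f.fn.map a) m = res ((fg O_D).obj M) p'.op m) (b : B.obj (op V))
    (m : Ms M d') :
    push B k w μ (b ⊗ₜ[O_C.obj.obj (op V)] relVal f M (Rel.nat d d' a v m)) = 0 := by
  simp only [relVal, TensorProduct.tmul_sub, map_sub, push_dl, sub_eq_zero]
  rw [h, h', ← res_comp, ← op_comp, hpp]

end Push

set_option maxHeartbeats 1600000 in
theorem loc_zero_of_whiskerRight (hM : ModSite.IsFlat M) {A B : PM O_C} (g : A ⟶ B)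
    (hg : ∀ W : Cᵒᵖ, Function.Injective (g.app W)) {V : C}
    (z : (A ⊗ pre f M : PM O_C).obj (op V)) (hz : (g ▷ pre f M).app (op V) z = 0) :
    Loc J fun W (k : W ⟶ V) => res (A ⊗ pre f M : PM O_C) k.op z = 0 := by
  classical
  let R := O_C.obj.obj (op V)
  have hπ : Function.Surjective ((proj f M).app (op V)).hom :=
    PresheafOfModules.surjective_of_epi _ _
  obtain ⟨y, rfl⟩ := LinearMap.lTensor_surjective (R := R) (A.obj (op V)) hπ z
  obtain ⟨I, rfl⟩ := exists_sum_tmul (R := R) y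
  let d : I → D := fun i => i.1.1.1
  let v : ∀ i : I, V ⟶ f.fn.obj (d i) := fun i => i.1.1.2.1
  let m : ∀ i : I, Ms M (d i) := fun i => i.1.1.2.2
  let a : I → A.obj (op V) := fun i => i.1.2
  have hzsum : (((proj f M).app (op V)).hom.lTensor (A.obj (op V)))
      (∑ p ∈ I, p.2 ⊗ₜ[R] Finsupp.single p.1 (1 : R)) = ∑ i, tc f M A (a i) (v i) (m i) := by
    rw [← Finset.sum_coe_sort I, map_sum]
    rfl
  let yB : B.obj (op V) ⊗[R] (FG f M).obj (op V) := ∑ i, g.app (op V) (a i) ⊗ₜ[R] dl f M (v i) (m i)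
  have hyB : ((proj f M).app (op V)).hom.lTensor (B.obj (op V)) yB = 0 := by
    refine Eq.trans ?_ hz
    refine Eq.trans ?_ (congrArg ((g ▷ pre f M).app (op V)) hzsum).symm
    refine (map_sum _ _ _).trans ?_
    refine Eq.trans ?_ (map_sum ((g ▷ pre f M).app (op V)).hom _ _).symm
    rfl
  have hex := lTensor_exact (R := R) (B.obj (op V)) (exact_app f M (op V)) hπ
  obtain ⟨u, hu⟩ := (hex yB).1 hyB
  obtain ⟨Q, rfl⟩ := exists_sum_tmul (R := R) u
  have hu' : yB = ∑ q ∈ Q, q.2 ⊗ₜ[R] relVal f M (W := V) q.1 := by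
    refine hu.symm.trans ((map_sum _ _ _).trans ?_)
    exact Finset.sum_congr rfl fun q _ => congrArg (q.2 ⊗ₜ[R] ·) (relMap_single f M q.1)
  -- the finite diagram
  let src : Rel f M V → Σ d : D, (V ⟶ f.fn.obj d) := fun
    | .add d v _ _ => ⟨d, v⟩
    | .smul d v _ _ => ⟨d, v⟩
    | .nat d _ _ v _ => ⟨d, v⟩
  let tgt : Rel f M V → Σ d : D, (V ⟶ f.fn.obj d) := fun
    | .add d v _ _ => ⟨d, v⟩
    | .smul d v _ _ => ⟨d, v⟩
    | .nat _ d' a v _ => ⟨d', v ≫ f.fn.map a⟩
  let arr : ∀ r : Rel f M V, (src r).1 ⟶ (tgt r).1 := fun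
    | .add d _ _ _ => 𝟙 d
    | .smul d _ _ _ => 𝟙 d
    | .nat _ _ a _ _ => a
  have harr : ∀ r, (src r).2 ≫ f.fn.map (arr r) = (tgt r).2 := by
    intro r
    cases r <;> simp [src, tgt, arr]
  let Ob : Finset (Σ d : D, (V ⟶ f.fn.obj d)) := (Finset.univ.image fun i : I => ⟨d i, v i⟩) ∪
    Q.image (fun q => src q.1) ∪ Q.image (fun q => tgt q.1)
  have hi : ∀ i : I, (⟨d i, v i⟩ : Σ d : D, (V ⟶ f.fn.obj d)) ∈ Ob := fun i =>
    Finset.mem_union_left _ (Finset.mem_union_left _ (Finset.mem_image_of_mem _ (Finset.mem_univ i)))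
  have hs : ∀ q : Q, src q.1.1 ∈ Ob := fun q =>
    Finset.mem_union_left _ (Finset.mem_union_right _ (Finset.mem_image_of_mem (fun q => src q.1) q.2))
  have ht : ∀ q : Q, tgt q.1.1 ∈ Ob := fun q =>
    Finset.mem_union_right _ (Finset.mem_image_of_mem (fun q => tgt q.1) q.2)
  refine (exists_cone_finite (ι := Ob) (κ := Q) K f.fn (fun o => o.1.1) (fun o => o.1.2)
    (fun q => ⟨_, hs q⟩) (fun q => ⟨_, ht q⟩) (fun q => arr q.1.1) fun q => harr q.1.1).bind
      fun W k ⟨e, w, p, hp, hpa⟩ => ?_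
  -- push to the cone
  let μ : ∀ ⦃d' : D⦄, (V ⟶ f.fn.obj d') → Ms M d' → Ms M e := fun d' v' m' =>
    if h : (⟨d', v'⟩ : Σ d : D, (V ⟶ f.fn.obj d)) ∈ Ob then
      res ((fg O_D).obj M) (p ⟨_, h⟩).op m' else 0
  have hμ : ∀ (o : Ob) (m' : Ms M o.1.1), μ o.1.2 m' = res ((fg O_D).obj M) (p o).op m' :=
    fun o m' => dif_pos o.2
  have hkill : ∀ q ∈ Q, push B k w μ (q.2 ⊗ₜ[R] relVal f M (W := V) q.1) = 0 := by
    rintro ⟨r, b⟩ hq
    cases r with
    | add d' v' m' m'' =>
      exact push_add B k w μ v' (fun x y => by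
        rw [hμ ⟨_, hs ⟨_, hq⟩⟩ x, hμ ⟨_, hs ⟨_, hq⟩⟩ y]
        exact (hμ ⟨_, hs ⟨_, hq⟩⟩ (x + y)).trans (map_add _ _ _)) b m' m''
    | smul d' v' r m' =>
      exact push_smul B k w μ v' _ (hp ⟨_, hs ⟨_, hq⟩⟩) (hμ ⟨_, hs ⟨_, hq⟩⟩) b r m'
    | nat d' d'' a' v' m' =>
      exact push_nat B k w μ a' v' _ _ (hpa ⟨_, hq⟩) (hμ ⟨_, hs ⟨_, hq⟩⟩) (hμ ⟨_, ht ⟨_, hq⟩⟩) b m'
  let μ' : I → Ms M e := fun i => res ((fg O_D).obj M) (p ⟨_, hi i⟩).op (m i)
  have hvan : VanishesAt f M B w (fun i => g.app (op W) (res A k.op (a i))) μ' := by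
    have := congrArg (push B k w μ) hu'
    rw [map_sum, map_sum, Finset.sum_eq_zero hkill] at this
    refine Eq.trans ?_ this
    refine Finset.sum_congr rfl fun i _ => ?_
    refine Eq.trans ?_ (push_dl B k w μ _ _ _).symm
    rw [hμ ⟨_, hi i⟩ (m i), ← res_app]
    rfl
  have hsum : res (A ⊗ pre f M : PM O_C) k.op
      (∑ i, tc f M A (a i) (v i) (m i)) = ∑ i, tc f M A (res A k.op (a i)) w (μ' i) := by
    rw [map_sum]
    refine Finset.sum_congr rfl fun i _ => ?_
    rw [res_tc]
    refine congrArg (res A k.op (a i) ⊗ₜ[O_C.obj.obj (op W)] ·) ?_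
    exact (congrArg (cl f M · (m i)) (hp ⟨_, hi i⟩).symm).trans (cl_nat f M w _ _)
  refine Loc.mono (loc_zero_of_vanishesAt hM g hg w (fun i => res A k.op (a i)) μ' hvan)
    fun Z l hl => ?_
  refine (congrArg (res (A ⊗ pre f M : PM O_C) (l ≫ k).op) hzsum).trans ?_
  rw [op_comp, res_comp, hsum]
  exact hl

variable (f M)

/-- Tensoring with the presheaf inverse image of a flat module preserves local injectivity. -/
theorem isLocallyInjective_whiskerRight_pre (hM : ModSite.IsFlat M) {A B : PM O_C} (g : A ⟶ B)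
    [Mono g] : Presheaf.IsLocallyInjective J (pmap (g ▷ pre f M)) where
  equalizerSieve_mem {V} x y h := by
    obtain ⟨V⟩ := V
    obtain ⟨S, hS, hS'⟩ := loc_zero_of_whiskerRight hM g
      (fun W => PresheafOfModules.injective_of_mono g W) (x - y : (A ⊗ pre f M : PM O_C).obj (op V))
      ((map_sub ((g ▷ pre f M).app (op V)).hom x y).trans (sub_eq_zero.2 h))
    refine J.superset_covering (fun W k hk => ?_) hS
    exact sub_eq_zero.1 ((map_sub (res (A ⊗ pre f M : PM O_C) k.op) x y).symm.trans (hS' k hk))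

/-- The inverse image of a flat module is flat. -/
theorem isFlat_pull (hM : ModSite.IsFlat M) : ModSite.IsFlat (f.pull.obj M) := by
  refine isFlat_of_iso (pullIso f M) (isFlat_of_mono fun A B g hg => ?_)
  have := SiteStalk.mono_forget g
  have h := (SiteStalk.mono_sh_map_iff' ((fg O_C).map g ▷ pre f M)).2
    (isLocallyInjective_whiskerRight_pre f M hM ((fg O_C).map g))
  exact @mono_map_of_iso _ _ _ _ _ _ (tRsh (pre f M)) _ _ g h

end Groth.Agent.PullFlat
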