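import Groth.Agent.ModGroth.Flat

/-!
# A presentation of the inverse image of a module

For a morphism of ringed sites `f` given by `fn : D ⥤ C`, the inverse image of `M` is the sheaf
associated with the presheaf generated by triples `(d, v : V ⟶ fn d, m ∈ M d)` with relations
expressing additivity, semilinearity and naturality in `d`.
-/

universe u

open CategoryTheory Limits Opposite

namespace Groth.Agent.PullFlat

open Groth.Agent.ModGroth

variable {C D : Type u} [SmallCategory C] [SmallCategory D] {J : GrothendieckTopology C}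
  {K : GrothendieckTopology D} {O_C : Sheaf J CommRingCat.{u}} {O_D : Sheaf K CommRingCat.{u}}
  (f : ModSite.RMor O_C O_D) (M : ModSite.Mod O_D)

/-- Sections of `M`. -/
abbrev Ms (d : D) : Type u := ((fg O_D).obj M).obj (op d)

/-- The ring map attached to an arrow to the image. -/
noncomputable def psi {V : C} {d : D} (v : V ⟶ f.fn.obj d) :
    O_D.obj.obj (op d) →+* O_C.obj.obj (op V) :=
  ((O_C.obj.map v.op).hom).comp (f.sharp.hom.app (op d)).hom

lemma psi_comp {V W : C} (g : W ⟶ V) {d : D} (v : V ⟶ f.fn.obj d) (r : O_D.obj.obj (op d)) :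
    psi f (g ≫ v) r = (O_C.obj.map g.op).hom (psi f v r) := by
  simp only [psi, op_comp, Functor.map_comp]
  rfl

lemma psi_map {V : C} {d d' : D} (v : V ⟶ f.fn.obj d) (a : d ⟶ d') (r : O_D.obj.obj (op d')) :
    psi f (v ≫ f.fn.map a) r = psi f v ((O_D.obj.map a.op).hom r) := by
  rw [psi_comp]
  change (O_C.obj.map v.op).hom (psi f (f.fn.map a) r) = (O_C.obj.map v.op).hom _
  exact congrArg _ (ConcreteCategory.congr_hom (f.sharp.hom.naturality a.op) r).symm

lemma psi_id {d : D} (r : O_D.obj.obj (op d)) :
    psi f (𝟙 (f.fn.obj d)) r = (f.sharp.hom.app (op d)).hom r := by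
  simp only [psi, op_id, CategoryTheory.Functor.map_id]
  rfl

/-- Generators. -/
@[simps]
def gen : Cᵒᵖ ⥤ Type u where
  obj W := Σ d : D, (W.unop ⟶ f.fn.obj d) × Ms M d
  map g := ↾fun x => ⟨x.1, g.unop ≫ x.2.1, x.2.2⟩
  map_id W := by ext ⟨d, v, m⟩ <;> simp
  map_comp g h := by ext ⟨d, v, m⟩ <;> simp

/-- Relations. -/
inductive Rel (W : C) : Type u where
  /-- additivity -/
  | add (d : D) (v : W ⟶ f.fn.obj d) (m m' : Ms M d) : Rel W
  /-- semilinearity -/
  | smul (d : D) (v : W ⟶ f.fn.obj d) (r : O_D.obj.obj (op d)) (m : Ms M d) : Rel W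
  /-- naturality -/
  | nat (d d' : D) (a : d ⟶ d') (v : W ⟶ f.fn.obj d) (m : Ms M d') : Rel W

variable {f M}

/-- Restriction of relations. -/
def Rel.res {W W' : C} (g : W' ⟶ W) : Rel f M W → Rel f M W'
  | .add d v m m' => .add d (g ≫ v) m m'
  | .smul d v r m => .smul d (g ≫ v) r m
  | .nat d d' a v m => .nat d d' a (g ≫ v) m

variable (f M)

/-- The presheaf of relations. -/
@[simps]
def rel : Cᵒᵖ ⥤ Type u where
  obj W := Rel f M W.unop
  map g := ↾Rel.res g.unop
  map_id W := by ext x; cases x <;> simp [Rel.res]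
  map_comp g h := by ext x; cases x <;> simp [Rel.res]

/-- Free presheaf on the generators. -/
noncomputable abbrev FG : PM O_C := PresheafOfModules.freeObj (gen f M)

/-- Free presheaf on the relations. -/
noncomputable abbrev FR : PM O_C := PresheafOfModules.freeObj (rel f M)

/-- The generator `(d, v, m)`. -/
noncomputable def dl {V : C} {d : D} (v : V ⟶ f.fn.obj d) (m : Ms M d) : (FG f M).obj (op V) :=
  Finsupp.single (⟨d, v, m⟩ : (gen f M).obj (op V)) (1 : O_C.obj.obj (op V))

lemma res_dl {V W : C} (g : W ⟶ V) {d : D} (v : V ⟶ f.fn.obj d) (m : Ms M d) :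
    res (FG f M) g.op (dl f M v m) = dl f M (g ≫ v) m :=
  ModuleCat.freeDesc_apply _ _

/-- The element attached to a relation. -/
noncomputable def relVal {W : C} : Rel f M W → (FG f M).obj (op W)
  | .add _ v m m' => dl f M v (m + m') - dl f M v m - dl f M v m'
  | .smul _ v r m => dl f M v (r • m) - psi f v r • dl f M v m
  | .nat _ _ a v m => dl f M (v ≫ f.fn.map a) m - dl f M v (res ((fg O_D).obj M) a.op m)

lemma res_relVal {V W : C} (g : W ⟶ V) (x : Rel f M V) :
    res (FG f M) g.op (relVal f M x) = relVal f M (x.res g) := by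
  cases x <;>
    simp only [relVal, Rel.res, map_sub, res_smul, res_dl, psi_comp, Category.assoc]

/-- The relation map. -/
noncomputable def relMap : FR f M ⟶ FG f M :=
  PresheafOfModules.freeObjDesc
    { app := fun W => ↾fun x => relVal f M (W := W.unop) x
      naturality := fun W W' g => by
        ext x
        exact (res_relVal f M g.unop x).symm }

lemma relMap_single {W : C} (x : Rel f M W) :
    (relMap f M).app (op W) (Finsupp.single x (1 : O_C.obj.obj (op W))) = relVal f M x :=
  ModuleCat.freeDesc_apply _ _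

lemma hom_ext_free {F : Cᵒᵖ ⥤ Type u} {G : PM O_C} {φ φ' : PresheafOfModules.freeObj F ⟶ G}
    (h : ∀ (W : Cᵒᵖ) (x : F.obj W), φ.app W (Finsupp.single x (1 : O_C.obj.obj W)) =
      φ'.app W (Finsupp.single x (1 : O_C.obj.obj W))) : φ = φ' := by
  apply PresheafOfModules.free_hom_ext
  ext W x
  exact h W x

/-- The presheaf inverse image of `M`. -/
noncomputable abbrev pre : PM O_C := cokernel (relMap f M)

/-- The projection. -/
noncomputable abbrev proj : FG f M ⟶ pre f M := cokernel.π (relMap f M)

/-- The class of `(d, v, m)`. -/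
noncomputable def cl {V : C} {d : D} (v : V ⟶ f.fn.obj d) (m : Ms M d) : (pre f M).obj (op V) :=
  (proj f M).app (op V) (dl f M v m)

lemma proj_relVal {W : C} (x : Rel f M W) : (proj f M).app (op W) (relVal f M x) = 0 := by
  rw [← relMap_single]
  exact ConcreteCategory.congr_hom (congrArg (fun φ => PresheafOfModules.Hom.app φ (op W))
    (cokernel.condition (relMap f M))) _

lemma res_cl {V W : C} (g : W ⟶ V) {d : D} (v : V ⟶ f.fn.obj d) (m : Ms M d) :
    res (pre f M) g.op (cl f M v m) = cl f M (g ≫ v) m :=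
  (res_app (proj f M) g.op _).symm.trans (congrArg _ (res_dl f M g v m))

lemma cl_add {V : C} {d : D} (v : V ⟶ f.fn.obj d) (m m' : Ms M d) :
    cl f M v (m + m') = cl f M v m + cl f M v m' := by
  have := proj_relVal f M (Rel.add d v m m')
  simp only [relVal, map_sub, sub_eq_iff_eq_add, zero_add] at this
  exact this.trans (add_comm _ _)

lemma cl_zero {V : C} {d : D} (v : V ⟶ f.fn.obj d) : cl f M v (0 : Ms M d) = 0 :=
  left_eq_add.1 ((congrArg (cl f M v) (add_zero (0 : Ms M d)).symm).trans (cl_add f M v 0 0))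

lemma cl_sum {V : C} {d : D} (v : V ⟶ f.fn.obj d) {ι : Type*} (s : Finset ι) (m : ι → Ms M d) :
    cl f M v (∑ i ∈ s, m i) = ∑ i ∈ s, cl f M v (m i) :=
  map_sum (AddMonoidHom.mk' (fun x => cl f M v x) (cl_add f M v)) m s

lemma cl_smul {V : C} {d : D} (v : V ⟶ f.fn.obj d) (r : O_D.obj.obj (op d)) (m : Ms M d) :
    cl f M v (r • m) = psi f v r • cl f M v m := by
  have := proj_relVal f M (Rel.smul d v r m)
  simp only [relVal, map_sub, sub_eq_zero] at this
  exact this.trans (map_smul ((proj f M).app (op V)).hom _ _)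

lemma cl_nat {V : C} {d d' : D} (v : V ⟶ f.fn.obj d) (a : d ⟶ d') (m : Ms M d') :
    cl f M (v ≫ f.fn.map a) m = cl f M v (res ((fg O_D).obj M) a.op m) := by
  have := proj_relVal f M (Rel.nat d d' a v m)
  simp only [relVal, map_sub, sub_eq_zero] at this
  exact this

/-- The sheaf associated with the presheaf inverse image. -/
noncomputable abbrev spre : ModSite.Mod O_C := (sh O_C).obj (pre f M)

/-- The universal map `M ⟶ f_*`. -/
noncomputable def univ : M ⟶ f.push.obj (spre f M) where
  val := PresheafOfModules.homMk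
    { app := fun d => AddCommGrpCat.ofHom (AddMonoidHom.mk'
        (fun m => (eta' (pre f M)).app (op (f.fn.obj d.unop)) (cl f M (𝟙 _) (m : Ms M d.unop)))
        fun m m' => (congrArg _ (cl_add f M _ _ _)).trans (map_add _ _ _))
      naturality := fun d d' a => by
        ext m
        let m' : Ms M d.unop := m
        change (eta' (pre f M)).app (op (f.fn.obj d'.unop))
            (cl f M (𝟙 _) (res ((fg O_D).obj M) a.unop.op m')) =
          res ((fg O_C).obj (spre f M)) (f.fn.map a.unop).op
            ((eta' (pre f M)).app (op (f.fn.obj d.unop)) (cl f M (𝟙 _) m'))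
        refine Eq.trans (congrArg _ ?_) (res_app (eta' (pre f M)) (f.fn.map a.unop).op _)
        refine Eq.trans ?_ (res_cl f M (f.fn.map a.unop) (𝟙 _) m').symm
        refine (cl_nat f M (𝟙 _) a.unop m').symm.trans ?_
        rw [Category.id_comp, Category.comp_id] }
    fun d r m => by
      change (eta' (pre f M)).app (op (f.fn.obj d.unop)) (cl f M (𝟙 _) (r • (m : Ms M d.unop))) =
        _
      refine (congrArg ((eta' (pre f M)).app (op (f.fn.obj d.unop)))
        (cl_smul f M (d := d.unop) (𝟙 _) r m)).trans ?_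
      exact (map_smul ((eta' (pre f M)).app (op (f.fn.obj d.unop))).hom _ _).trans
        (congrArg (fun c : O_C.obj.obj (op (f.fn.obj d.unop)) =>
          c • (eta' (pre f M)).app (op (f.fn.obj d.unop)) (cl f M (𝟙 _) (m : Ms M d.unop)))
          (psi_id f (d := d.unop) r))

lemma univ_app {d : D} (m : Ms M d) :
    (univ f M).val.app (op d) m = (eta' (pre f M)).app (op (f.fn.obj d)) (cl f M (𝟙 _) m) := rfl

/-- The unit of `f^* ⊣ f_*`. -/
noncomputable def unitS {d : D} : Ms M d →+ ((fg O_C).obj (f.pull.obj M)).obj (op (f.fn.obj d)) :=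
  ((f.adj.unit.app M).val.app (op d)).hom.toAddMonoidHom

lemma unitS_res {d d' : D} (a : d ⟶ d') (m : Ms M d') :
    unitS f M (res ((fg O_D).obj M) a.op m) =
      res ((fg O_C).obj (f.pull.obj M)) (f.fn.map a).op (unitS f M m) :=
  PresheafOfModules.naturality_apply (f.adj.unit.app M).val a.op m

lemma unitS_smul {d : D} (r : O_D.obj.obj (op d)) (m : Ms M d) :
    unitS f M (r • m) = psi f (𝟙 _) r • unitS f M m :=
  (((f.adj.unit.app M).val.app (op d)).hom.map_smul r m).trans
    (congrArg (· • unitS f M m) (psi_id f r).symm)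

/-- The map on generators. -/
noncomputable def genMap : FG f M ⟶ (fg O_C).obj (f.pull.obj M) :=
  PresheafOfModules.freeObjDesc
    { app := fun W => ↾fun x =>
        res ((fg O_C).obj (f.pull.obj M)) (V := op (f.fn.obj x.1)) (W := W) x.2.1.op (unitS f M x.2.2)
      naturality := fun W W' g => by
        ext ⟨d, v, m⟩
        exact res_comp ((fg O_C).obj (f.pull.obj M)) v.op g (unitS f M m) }

lemma genMap_dl {V : C} {d : D} (v : V ⟶ f.fn.obj d) (m : Ms M d) :
    (genMap f M).app (op V) (dl f M v m) =
      res ((fg O_C).obj (f.pull.obj M)) v.op (unitS f M m) :=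
  ModuleCat.freeDesc_apply _ _

lemma relMap_genMap : relMap f M ≫ genMap f M = 0 := by
  refine hom_ext_free fun ⟨W⟩ x => ?_
  refine (congrArg ((genMap f M).app (op W)) (relMap_single f M x)).trans ?_
  change _ = (0 : ((fg O_C).obj (f.pull.obj M)).obj (op W))
  cases x <;> simp only [relVal, map_sub, genMap_dl]
  · simp
  · rw [unitS_smul, res_smul, map_smul ((genMap f M).app (op W)).hom, genMap_dl, sub_eq_zero,
      ← psi_comp, Category.comp_id]
  · rw [unitS_res, op_comp, res_comp, sub_self]

/-- `sh (pre M) ⟶ f^* M`. -/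
noncomputable def toPull : spre f M ⟶ f.pull.obj M :=
  ((adjn O_C).homEquiv _ _).symm (cokernel.desc (relMap f M) (genMap f M) (relMap_genMap f M))

lemma toPull_eta {V : C} {d : D} (v : V ⟶ f.fn.obj d) (m : Ms M d) :
    (toPull f M).val.app (op V) ((eta' (pre f M)).app (op V) (cl f M v m)) =
      res ((fg O_C).obj (f.pull.obj M)) v.op (unitS f M m) := by
  have h : eta' (pre f M) ≫ (fg O_C).map (toPull f M) =
      cokernel.desc (relMap f M) (genMap f M) (relMap_genMap f M) :=
    ((adjn O_C).homEquiv_unit _ _ _).symm.trans (Equiv.apply_symm_apply _ _)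
  refine (ConcreteCategory.congr_hom (congrArg (fun φ => PresheafOfModules.Hom.app φ (op V)) h)
    (cl f M v m)).trans ?_
  exact (ConcreteCategory.congr_hom (congrArg (fun φ => PresheafOfModules.Hom.app φ (op V))
    (cokernel.π_desc (relMap f M) (genMap f M) (relMap_genMap f M))) (dl f M v m)).trans
      (genMap_dl f M v m)

/-- `f^* M ⟶ sh (pre M)`. -/
noncomputable def ofPull : f.pull.obj M ⟶ spre f M := (f.adj.homEquiv _ _).symm (univ f M)

lemma ofPull_unitS {d : D} (m : Ms M d) :
    (ofPull f M).val.app (op (f.fn.obj d)) (unitS f M m) =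
      (eta' (pre f M)).app (op (f.fn.obj d)) (cl f M (𝟙 _) m) := by
  have h : f.adj.unit.app M ≫ f.push.map (ofPull f M) = univ f M :=
    (f.adj.homEquiv_unit _ _ _).symm.trans (Equiv.apply_symm_apply _ _)
  exact ConcreteCategory.congr_hom (congrArg (fun φ => PresheafOfModules.Hom.app φ.val (op d)) h) m

/-- The presentation of the inverse image. -/
noncomputable def pullIso : spre f M ≅ f.pull.obj M where
  hom := toPull f M
  inv := ofPull f M
  hom_inv_id := by
    apply ((adjn O_C).homEquiv _ _).injective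
    rw [Adjunction.homEquiv_unit, Adjunction.homEquiv_unit]
    refine (cancel_epi (proj f M)).1 (hom_ext_free fun ⟨W⟩ ⟨d, v, m⟩ => ?_)
    change (ofPull f M).val.app (op W) ((toPull f M).val.app (op W)
      ((eta' (pre f M)).app (op W) (cl f M v m))) = (eta' (pre f M)).app (op W) (cl f M v m)
    rw [toPull_eta]
    refine (res_app (M := (fg O_C).obj (f.pull.obj M)) (M' := (fg O_C).obj (spre f M))
      ((fg O_C).map (ofPull f M)) v.op _).trans ?_
    refine (congrArg (res ((fg O_C).obj (spre f M)) v.op) (ofPull_unitS f M m)).trans ?_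
    rw [← res_app, res_cl, Category.comp_id]
  inv_hom_id := by
    apply (f.adj.homEquiv _ _).injective
    rw [Adjunction.homEquiv_unit, Adjunction.homEquiv_unit]
    apply SheafOfModules.hom_ext
    refine PresheafOfModules.hom_ext fun ⟨d⟩ => ModuleCat.hom_ext (LinearMap.ext fun m => ?_)
    change (toPull f M).val.app (op (f.fn.obj d))
      ((ofPull f M).val.app (op (f.fn.obj d)) (unitS f M m)) = unitS f M m
    refine (congrArg ((toPull f M).val.app (op (f.fn.obj d))) (ofPull_unitS f M m)).trans ?_
    refine (toPull_eta f M (𝟙 _) m).trans ?_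
    rw [op_id]
    exact res_id _ _

end Groth.Agent.PullFlat
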