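import Groth.Agent.PullFlat.Site

/-!
# Finite diagrams over an object locally have cones

Local properties of objects of a site, and locally defined cones over finite diagrams of arrows to
the image of a continuous functor with exact inverse image.
-/

universe u

open CategoryTheory Limits Opposite

namespace Groth.Agent.PullFlat

variable {C D : Type u} [SmallCategory C] [SmallCategory D]
  (J : GrothendieckTopology C) (K : GrothendieckTopology D) (fn : D ⥤ C)

/-- `P` holds on the arrows of some covering of `V`. -/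
def Loc {V : C} (P : ∀ ⦃W : C⦄, (W ⟶ V) → Prop) : Prop :=
  ∃ S ∈ J V, ∀ ⦃W : C⦄ (g : W ⟶ V), S g → P g

variable {J}

lemma Loc.of_forall {V : C} {P : ∀ ⦃W : C⦄, (W ⟶ V) → Prop} (h : ∀ ⦃W : C⦄ (g : W ⟶ V), P g) :
    Loc J P := ⟨⊤, J.top_mem V, fun _ g _ => h g⟩

lemma Loc.mono {V : C} {P Q : ∀ ⦃W : C⦄, (W ⟶ V) → Prop} (hP : Loc J P)
    (h : ∀ ⦃W : C⦄ (g : W ⟶ V), P g → Q g) : Loc J Q :=
  let ⟨S, hS, hS'⟩ := hP; ⟨S, hS, fun _ g hg => h g (hS' g hg)⟩

lemma Loc.bind {V : C} {P Q : ∀ ⦃W : C⦄, (W ⟶ V) → Prop} (hP : Loc J P)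
    (h : ∀ ⦃W : C⦄ (g : W ⟶ V), P g → Loc J (V := W) fun _ k => Q (k ≫ g)) : Loc J Q := by
  obtain ⟨S, hS, hS'⟩ := hP
  choose T hT hT' using fun W (g : W ⟶ V) (hg : S g) => h g (hS' g hg)
  exact ⟨Sieve.bind S.arrows fun W g hg => T W g hg, J.bind_covering hS fun W g hg => hT W g hg,
    fun Z _ ⟨W, k, g, hg, hk, e⟩ => e ▸ hT' W g hg k hk⟩

variable [fn.IsContinuous K J] [PreservesFiniteLimits (fn.sheafPullback (Type u) K J)]

include K in
/-- Finitely many arrows to the image of `fn` locally factor through one. -/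
theorem exists_cone_objs {ι : Type*} (s : Finset ι) {V : C} (d : ι → D)
    (v : ∀ i, V ⟶ fn.obj (d i)) :
    Loc J fun W (g : W ⟶ V) => ∃ (e : D) (w : W ⟶ fn.obj e) (p : ∀ i ∈ s, e ⟶ d i),
      ∀ i hi, w ≫ fn.map (p i hi) = g ≫ v i := by
  classical
  induction s using Finset.induction_on with
  | empty =>
    exact Loc.mono (exists_obj K fn (J := J) V) fun W g ⟨e, ⟨w⟩⟩ =>
      ⟨e, w, fun i hi => absurd hi (Finset.notMem_empty i), fun i hi => absurd hi (Finset.notMem_empty i)⟩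
  | @insert i₀ s hi₀ ih =>
    refine ih.bind fun W g ⟨e, w, p, hp⟩ => ?_
    refine Loc.mono (exists_cone K fn (J := J) w (g ≫ v i₀)) fun Z k ⟨e', w', q₁, q₂, h₁, h₂⟩ => ?_
    refine ⟨e', w', fun i hi => if h : i = i₀ then q₂ ≫ eqToHom (congrArg d h.symm) else
      q₁ ≫ p i ((Finset.mem_insert.1 hi).resolve_left h), fun i hi => ?_⟩
    by_cases h : i = i₀
    · subst h
      simp [h₂]
    · simp only [dif_neg h, Functor.map_comp]
      rw [reassoc_of% h₁, hp]
      exact (Category.assoc _ _ _).symm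

include K in
/-- Finite diagrams of arrows to the image of `fn` locally have cones. -/
theorem exists_cone_finite {ι κ : Type*} [Finite ι] [Finite κ] {V : C} (d : ι → D)
    (v : ∀ i, V ⟶ fn.obj (d i)) (σ τ : κ → ι) (a : ∀ k, d (σ k) ⟶ d (τ k))
    (ha : ∀ k, v (σ k) ≫ fn.map (a k) = v (τ k)) :
    Loc J fun W (g : W ⟶ V) => ∃ (e : D) (w : W ⟶ fn.obj e) (p : ∀ i, e ⟶ d i),
      (∀ i, w ≫ fn.map (p i) = g ≫ v i) ∧ ∀ k, p (σ k) ≫ a k = p (τ k) := by
  classical
  have := Fintype.ofFinite ι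
  have := Fintype.ofFinite κ
  suffices H : ∀ t : Finset κ, Loc J fun W (g : W ⟶ V) => ∃ (e : D) (w : W ⟶ fn.obj e)
      (p : ∀ i, e ⟶ d i), (∀ i, w ≫ fn.map (p i) = g ≫ v i) ∧
        ∀ k ∈ t, p (σ k) ≫ a k = p (τ k) from
    (H Finset.univ).mono fun W g ⟨e, w, p, h₁, h₂⟩ => ⟨e, w, p, h₁, fun k => h₂ k (Finset.mem_univ k)⟩
  intro t
  induction t using Finset.induction_on with
  | empty =>
    exact (exists_cone_objs K fn Finset.univ d v).mono fun W g ⟨e, w, p, hp⟩ =>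
      ⟨e, w, fun i => p i (Finset.mem_univ i), fun i => hp i _,
        fun k hk => absurd hk (Finset.notMem_empty k)⟩
  | @insert k₀ t hk₀ ih =>
    refine ih.bind fun W g ⟨e, w, p, hp, hq⟩ => ?_
    have hw : w ≫ fn.map (p (σ k₀) ≫ a k₀) = w ≫ fn.map (p (τ k₀)) := by
      rw [fn.map_comp, reassoc_of% hp, ha, hp]
    refine Loc.mono (exists_equalize K fn (J := J) w _ _ hw) fun Z k ⟨e', w', c, h₁, h₂⟩ => ?_
    refine ⟨e', w', fun i => c ≫ p i, fun i => ?_, fun k' hk' => ?_⟩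
    · rw [fn.map_comp, reassoc_of% h₁, hp]
      exact (Category.assoc _ _ _).symm
    · rcases Finset.mem_insert.1 hk' with rfl | hk'
      · simpa using h₂
      · rw [Category.assoc, hq k' hk']

end Groth.Agent.PullFlat
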