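import Mathlib.LinearAlgebra.TensorProduct.Finiteness
import Mathlib.LinearAlgebra.TensorProduct.RightExactness
import Mathlib.LinearAlgebra.Finsupp.LinearCombination

/-!
# Vanishing sums of pure tensors

A sum of pure tensors `∑ b i ⊗ μ i` is zero only if the `μ`, collected by the value of `b`, are
combinations of coefficients of finitely many relations between elements.
-/

universe u

open scoped TensorProduct

namespace Groth.Agent.PullFlat

theorem exists_coeff {R : Type*} [CommRing R] {B M : Type*} [AddCommGroup B] [Module R B]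
    [AddCommGroup M] [Module R M] [DecidableEq B] {ι : Type*} [Fintype ι] (b : ι → B) (μ : ι → M)
    (h : ∑ i, b i ⊗ₜ[R] μ i = 0) :
    ∃ (r : ℕ) (ρ : Fin r → B →₀ R) (n : Fin r → M),
      (∀ k, Finsupp.linearCombination R (id : B → B) (ρ k) = 0) ∧
      ∀ c : B, ∑ i ∈ Finset.univ.filter (fun i => b i = c), μ i = ∑ k, ρ k c • n k := by
  classical
  let L := Finsupp.linearCombination R (id : B → B)
  have hL : Function.Surjective L := fun x => ⟨Finsupp.single x 1, by simp [L]⟩
  let z : (B →₀ R) ⊗[R] M := ∑ i, Finsupp.single (b i) 1 ⊗ₜ[R] μ i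
  have hz : L.rTensor M z = 0 := by
    refine (map_sum _ _ _).trans (Eq.trans ?_ h)
    exact Finset.sum_congr rfl fun i _ => by simp [L]
  have hex : Function.Exact (L.ker.subtype.rTensor M) (L.rTensor M) :=
    rTensor_exact (R := R) (M := L.ker) (N := B →₀ R) (P := B) M L.exact_subtype_ker_map hL
  obtain ⟨w, hw⟩ := (hex z).1 hz
  obtain ⟨T, hT⟩ := TensorProduct.exists_finset w
  let e := T.equivFin.symm
  refine ⟨T.card, fun k => ((e k).1.1 : B →₀ R), fun k => (e k).1.2, fun k => (e k).1.1.2, fun c => ?_⟩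
  let ev : (B →₀ R) ⊗[R] M →ₗ[R] M :=
    TensorProduct.lift ((LinearMap.lsmul R M).comp (Finsupp.lapply c))
  have hev := congrArg ev hw
  rw [hT] at hev
  simp only [z, map_sum, LinearMap.rTensor_tmul] at hev
  have h1 : ∀ i, ev (Finsupp.single (b i) 1 ⊗ₜ[R] μ i) = if b i = c then μ i else 0 := fun i => by
    change (Finsupp.single (b i) (1 : R)) c • μ i = _
    by_cases hi : b i = c <;> simp [hi]
  simp only [h1, ← Finset.sum_filter] at hev
  rw [← hev, ← Finset.sum_coe_sort T, ← e.sum_comp]
  rfl

end Groth.Agent.PullFlat
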