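import Mathlib.CategoryTheory.Sites.Pullback
import Mathlib.CategoryTheory.Sites.LocallyBijective
import Mathlib.CategoryTheory.Sites.EpiMono
import Mathlib.CategoryTheory.Functor.KanExtension.Adjunction
import Mathlib.CategoryTheory.Limits.Types.Colimits
import Mathlib.CategoryTheory.Limits.FunctorCategory.Basic

/-!
# Continuous functors with exact inverse image are locally covering flat

If `fn : D ⥤ C` is continuous and the inverse image of sheaves of sets preserves finite limits, then
objects of `C` locally map to the image of `fn`, two such maps locally factor through one, two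
arrows agreeing on an object are locally equalised, and coverings are locally preserved.
-/

universe u

open CategoryTheory Limits Opposite

namespace Groth.Agent.PullFlat

variable {C D : Type u} [SmallCategory C] [SmallCategory D]
  (J : GrothendieckTopology C) (K : GrothendieckTopology D) (fn : D ⥤ C)

/-- Presheaf inverse image. -/
noncomputable abbrev preL : (Dᵒᵖ ⥤ Type u) ⥤ (Cᵒᵖ ⥤ Type u) := fn.op.lan

/-- Presheaf inverse image followed by sheafification. -/
noncomputable abbrev shL : (Dᵒᵖ ⥤ Type u) ⥤ Sheaf J (Type u) :=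
  preL fn ⋙ presheafToSheaf J (Type u)

/-- It factors through the inverse image of sheaves. -/
noncomputable def shLIso [fn.IsContinuous K J] :
    presheafToSheaf K (Type u) ⋙ fn.sheafPullback (Type u) K J ≅ shL J fn :=
  Adjunction.leftAdjointUniq
    ((sheafificationAdjunction K (Type u)).comp (fn.sheafAdjunctionContinuous (Type u) K J))
    (((fn.op.lanAdjunction (Type u)).comp (sheafificationAdjunction J (Type u))).ofNatIsoRight
      (Iso.refl _))

lemma shL_preservesFiniteLimits [fn.IsContinuous K J]
    [PreservesFiniteLimits (fn.sheafPullback (Type u) K J)] : PreservesFiniteLimits (shL J fn) :=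
  have : PreservesFiniteLimits (presheafToSheaf K (Type u) ⋙ fn.sheafPullback (Type u) K J) :=
    comp_preservesFiniteLimits _ _
  preservesFiniteLimits_of_natIso (shLIso J K fn)

/-- The element `(v, x)` of the inverse image. -/
noncomputable def el {P : Dᵒᵖ ⥤ Type u} {V : C} {d : D} (v : V ⟶ fn.obj d) (x : P.obj (op d)) :
    ((preL fn).obj P).obj (op V) :=
  ((preL fn).obj P).map v.op ((fn.op.lanUnit.app P).app (op d) x)

lemma el_map {P : Dᵒᵖ ⥤ Type u} {V W : C} (g : W ⟶ V) {d : D} (v : V ⟶ fn.obj d) (x : P.obj (op d)) :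
    ((preL fn).obj P).map g.op (el fn v x) = el fn (g ≫ v) x := by
  simp only [el, op_comp, Functor.map_comp]
  rfl

lemma el_app {P Q : Dᵒᵖ ⥤ Type u} (θ : P ⟶ Q) {V : C} {d : D} (v : V ⟶ fn.obj d) (x : P.obj (op d)) :
    ((preL fn).map θ).app (op V) (el fn v x) = el fn v (θ.app (op d) x) := by
  have h := ConcreteCategory.congr_hom (congrArg (fun α => NatTrans.app α (op d))
    (fn.op.lanUnit.naturality θ)) x
  refine (NatTrans.naturality_apply ((preL fn).map θ) v.op _).trans ?_
  exact congrArg (((preL fn).obj Q).map v.op) h.symm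

lemma el_nat {P : Dᵒᵖ ⥤ Type u} {V : C} {d d' : D} (v : V ⟶ fn.obj d) (a : d ⟶ d')
    (x : P.obj (op d')) : el fn v (P.map a.op x) = el fn (v ≫ fn.map a) x := by
  refine Eq.trans ?_ (el_map fn v (fn.map a) x)
  exact congrArg (((preL fn).obj P).map v.op) (NatTrans.naturality_apply (fn.op.lanUnit.app P) a.op x)

lemma exists_el {P : Dᵒᵖ ⥤ Type u} {V : C} (q : ((preL fn).obj P).obj (op V)) :
    ∃ (d : D) (v : V ⟶ fn.obj d) (x : P.obj (op d)), el fn v x = q := by
  obtain ⟨j, y, hy⟩ := Types.jointly_surjective _ (fn.op.isPointwiseLeftKanExtensionLeftKanExtensionUnit P (op V)) q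
  exact ⟨j.left.unop, j.hom.unop, y, hy⟩

/-- The inverse image of a representable maps to the representable. -/
noncomputable def evY (d : D) : (preL fn).obj (yoneda.obj d) ⟶ yoneda.obj (fn.obj d) :=
  ((fn.op.lanAdjunction (Type u)).homEquiv _ _).symm
    { app := fun Z => ↾fun p => fn.map p
      naturality := fun Z Z' a => by
        ext p
        exact fn.map_comp _ _ }

lemma evY_el {d e : D} {V : C} (v : V ⟶ fn.obj e) (p : e ⟶ d) :
    (evY fn d).app (op V) (el fn v p) = v ≫ fn.map p := by
  refine (NatTrans.naturality_apply (evY fn d) v.op _).trans ?_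
  have h := ((fn.op.lanAdjunction (Type u)).homEquiv (yoneda.obj d) (yoneda.obj (fn.obj d))).apply_symm_apply
    { app := fun Z => ↾fun p => fn.map p
      naturality := fun Z Z' a => by
        ext p
        exact fn.map_comp _ _ }
  rw [Adjunction.homEquiv_unit, Functor.lanAdjunction_unit] at h
  exact congrArg (fun q => v ≫ q) (ConcreteCategory.congr_hom (congrArg (fun α => NatTrans.app α (op e)) h) p)

variable {J}

lemma locSurj_of_isIso {A B : Cᵒᵖ ⥤ Type u} (θ : A ⟶ B)
    [IsIso ((presheafToSheaf J (Type u)).map θ)] : Presheaf.IsLocallySurjective J θ := by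
  rw [← Presheaf.isLocallySurjective_presheafToSheaf_map_iff, Sheaf.isLocallySurjective_iff_epi]
  infer_instance

variable [fn.IsContinuous K J] [PreservesFiniteLimits (fn.sheafPullback (Type u) K J)]

include K in
/-- Locally some arrow to the image of `fn`. -/
theorem exists_obj (V : C) :
    ∃ S ∈ J V, ∀ ⦃W : C⦄ (g : W ⟶ V), S g → ∃ d : D, Nonempty (W ⟶ fn.obj d) := by
  have := shL_preservesFiniteLimits J K fn
  let θ : (preL fn).obj (⊤_ _) ⟶ ⊤_ _ := terminal.from _
  have : IsIso ((presheafToSheaf J (Type u)).map θ) :=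
    isIso_of_isTerminal (terminalIsTerminal.isTerminalObj (shL J fn) _)
      (terminalIsTerminal.isTerminalObj (presheafToSheaf J (Type u)) _) _
  have := locSurj_of_isIso (J := J) θ
  refine ⟨_, Presheaf.imageSieve_mem J θ (U := op V) (yonedaEquiv (terminal.from (yoneda.obj V))),
    fun W g hg => ?_⟩
  obtain ⟨q, -⟩ := hg
  obtain ⟨d, w, -⟩ := exists_el fn q
  exact ⟨d, ⟨w⟩⟩

include K in
/-- Two arrows to the image of `fn` locally factor through one. -/
theorem exists_cone {V : C} {d₁ d₂ : D} (v₁ : V ⟶ fn.obj d₁) (v₂ : V ⟶ fn.obj d₂) :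
    ∃ S ∈ J V, ∀ ⦃W : C⦄ (g : W ⟶ V), S g → ∃ (d : D) (w : W ⟶ fn.obj d) (p₁ : d ⟶ d₁) (p₂ : d ⟶ d₂),
      w ≫ fn.map p₁ = g ≫ v₁ ∧ w ≫ fn.map p₂ = g ≫ v₂ := by
  have := shL_preservesFiniteLimits J K fn
  let A := yoneda.obj d₁
  let B := yoneda.obj d₂
  let θ := prodComparison (preL fn) A B
  have : IsIso ((presheafToSheaf J (Type u)).map θ) := by
    have e : prodComparison (shL J fn) A B = (presheafToSheaf J (Type u)).map θ ≫
        prodComparison (presheafToSheaf J (Type u)) _ _ := prodComparison_comp ..
    have : IsIso (prodComparison (shL J fn) A B) := inferInstance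
    rw [e] at this
    exact IsIso.of_isIso_comp_right _ (prodComparison (presheafToSheaf J (Type u)) _ _)
  have := locSurj_of_isIso (J := J) θ
  let e₁ : ((preL fn).obj A).obj (op V) := el fn v₁ (𝟙 d₁)
  let e₂ : ((preL fn).obj B).obj (op V) := el fn v₂ (𝟙 d₂)
  let E := yonedaEquiv (prod.lift (yonedaEquiv.symm e₁) (yonedaEquiv.symm e₂))
  refine ⟨_, Presheaf.imageSieve_mem J θ (U := op V) E, fun W g hg => ?_⟩
  obtain ⟨q, hq⟩ := hg
  obtain ⟨d, w, x, rfl⟩ := exists_el fn q
  have key : ∀ {P : Cᵒᵖ ⥤ Type u} (π : (preL fn).obj A ⨯ (preL fn).obj B ⟶ P) (c : P.obj (op V)),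
      π.app (op V) E = c → π.app (op W) (θ.app (op W) (el fn w x)) = P.map g.op c := fun π c hc => by
    rw [← hc]
    exact (congrArg (π.app (op W)) hq).trans (NatTrans.naturality_apply π g.op E)
  refine ⟨d, w, (prod.fst (X := A) (Y := B)).app (op d) x, (prod.snd (X := A) (Y := B)).app (op d) x,
    ?_, ?_⟩
  · have h := key prod.fst e₁ (by
      rw [← yonedaEquiv_comp, prod.lift_fst, Equiv.apply_symm_apply])
    have h' : θ ≫ prod.fst = (preL fn).map (prod.fst (X := A) (Y := B)) := prodComparison_fst ..
    replace h := ((ConcreteCategory.congr_hom (congrArg (fun α => NatTrans.app α (op W)) h'.symm)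
      (el fn w x)).trans h)
    rw [el_app, el_map] at h
    have := congrArg ((evY fn d₁).app (op W)) h
    rw [evY_el, evY_el] at this
    simpa using this
  · have h := key prod.snd e₂ (by
      rw [← yonedaEquiv_comp, prod.lift_snd, Equiv.apply_symm_apply])
    have h' : θ ≫ prod.snd = (preL fn).map (prod.snd (X := A) (Y := B)) := prodComparison_snd ..
    replace h := ((ConcreteCategory.congr_hom (congrArg (fun α => NatTrans.app α (op W)) h'.symm)
      (el fn w x)).trans h)
    rw [el_app, el_map] at h
    have := congrArg ((evY fn d₂).app (op W)) h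
    rw [evY_el, evY_el] at this
    simpa using this

include K in
/-- Two arrows of `D` agreeing on an arrow to the image of `fn` are locally equalised. -/
theorem exists_equalize {V : C} {d d' : D} (v : V ⟶ fn.obj d) (a b : d ⟶ d')
    (hab : v ≫ fn.map a = v ≫ fn.map b) :
    ∃ S ∈ J V, ∀ ⦃W : C⦄ (g : W ⟶ V), S g → ∃ (e : D) (w : W ⟶ fn.obj e) (c : e ⟶ d),
      w ≫ fn.map c = g ≫ v ∧ c ≫ a = c ≫ b := by
  have := shL_preservesFiniteLimits J K fn
  let α := yoneda.map a
  let β := yoneda.map b
  let θ := equalizerComparison α β (preL fn)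
  let α' := (preL fn).map α
  let β' := (preL fn).map β
  have : IsIso ((presheafToSheaf J (Type u)).map θ) := by
    have e : equalizerComparison α β (shL J fn) = (presheafToSheaf J (Type u)).map θ ≫
        equalizerComparison α' β' (presheafToSheaf J (Type u)) := by
      apply equalizer.hom_ext
      rw [equalizerComparison_comp_π, Category.assoc]
      erw [equalizerComparison_comp_π]
      rw [← Functor.map_comp, equalizerComparison_comp_π]
      rfl
    have : IsIso (equalizerComparison α β (shL J fn)) := inferInstance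
    rw [e] at this
    exact IsIso.of_isIso_comp_right _ (equalizerComparison α' β' (presheafToSheaf J (Type u)))
  have := locSurj_of_isIso (J := J) θ
  let e₀ : ((preL fn).obj (yoneda.obj d)).obj (op V) := el fn v (𝟙 d)
  have he : α'.app (op V) e₀ = β'.app (op V) e₀ := by
    refine (el_app fn α v (𝟙 d)).trans (Eq.trans ?_ (el_app fn β v (𝟙 d)).symm)
    have := fun c : d ⟶ d' => el_nat fn (P := yoneda.obj d') v c (𝟙 d')
    simp only [yoneda_obj_map, Quiver.Hom.unop_op] at this
    refine Eq.trans ?_ ((congrArg (fun w => el fn (P := yoneda.obj d') w (𝟙 d')) hab).trans ?_)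
    · refine Eq.trans (congrArg (el fn v) ?_) (this a)
      simp [α]
    · refine (this b).symm.trans (congrArg (el fn v) ?_)
      simp [β]
  let E := yonedaEquiv (equalizer.lift (f := α') (g := β') (yonedaEquiv.symm e₀) (by
    apply yonedaEquiv.injective
    rw [yonedaEquiv_comp, yonedaEquiv_comp, Equiv.apply_symm_apply]
    exact he))
  refine ⟨_, Presheaf.imageSieve_mem J θ (U := op V) E, fun W g hg => ?_⟩
  obtain ⟨q, hq⟩ := hg
  obtain ⟨e, w, x, rfl⟩ := exists_el fn q
  refine ⟨e, w, (equalizer.ι α β).app (op e) x, ?_, ?_⟩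
  · have h := congrArg ((equalizer.ι α' β').app (op W)) hq
    have h1 : (equalizer.ι α' β').app (op V) E = e₀ := by
      rw [← yonedaEquiv_comp, equalizer.lift_ι, Equiv.apply_symm_apply]
    have h' : θ ≫ equalizer.ι α' β' = (preL fn).map (equalizer.ι α β) :=
      equalizerComparison_comp_π ..
    replace h := ((ConcreteCategory.congr_hom (congrArg (fun τ => NatTrans.app τ (op W)) h'.symm)
      (el fn w x)).trans h).trans ((NatTrans.naturality_apply (equalizer.ι α' β') g.op E).trans
        (congrArg _ h1))
    rw [el_app, el_map] at h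
    have := congrArg ((evY fn d).app (op W)) h
    rw [evY_el, evY_el] at this
    simpa using this
  · exact ConcreteCategory.congr_hom (congrArg (fun τ => NatTrans.app τ (op e))
      (equalizer.condition α β)) x

omit [PreservesFiniteLimits (fn.sheafPullback (Type u) K J)] in
/-- Coverings are locally preserved. -/
theorem exists_cover {V : C} {d : D} (v : V ⟶ fn.obj d) {T : Sieve d} (hT : T ∈ K d) :
    ∃ S ∈ J V, ∀ ⦃W : C⦄ (g : W ⟶ V), S g → ∃ (e : D) (w : W ⟶ fn.obj e) (c : e ⟶ d),
      T c ∧ w ≫ fn.map c = g ≫ v := by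
  have : Presheaf.IsLocallySurjective K T.functorInclusion := ⟨fun {U} f =>
    K.superset_covering (fun W g hg => ⟨⟨g ≫ f, hg⟩, rfl⟩) (K.pullback_stable f hT)⟩
  have : Epi ((presheafToSheaf K (Type u)).map T.functorInclusion) := by
    rw [← Sheaf.isLocallySurjective_iff_epi, Presheaf.isLocallySurjective_presheafToSheaf_map_iff]
    infer_instance
  have hP : (fn.sheafPullback (Type u) K J).PreservesEpimorphisms :=
    Functor.preservesEpimorphisms_of_adjunction (fn.sheafAdjunctionContinuous (Type u) K J)
  have h₁ : Epi ((presheafToSheaf K (Type u) ⋙ fn.sheafPullback (Type u) K J).map T.functorInclusion) :=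
    hP.preserves ((presheafToSheaf K (Type u)).map T.functorInclusion)
  have : Epi ((shL J fn).map T.functorInclusion) := by
    rw [← NatIso.naturality_1 (shLIso J K fn) T.functorInclusion]
    exact epi_comp' (IsIso.epi_of_iso _) (epi_comp' h₁ (IsIso.epi_of_iso _))
  have : Presheaf.IsLocallySurjective J ((preL fn).map T.functorInclusion) := by
    rw [← Presheaf.isLocallySurjective_presheafToSheaf_map_iff, Sheaf.isLocallySurjective_iff_epi]
    exact this
  refine ⟨_, Presheaf.imageSieve_mem J ((preL fn).map T.functorInclusion) (U := op V)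
    (el fn v (𝟙 d)), fun W g hg => ?_⟩
  obtain ⟨q, hq⟩ := hg
  obtain ⟨e, w, x, rfl⟩ := exists_el fn q
  refine ⟨e, w, x.1, x.2, ?_⟩
  rw [el_app, el_map] at hq
  have := congrArg ((evY fn d).app (op W)) hq
  rw [evY_el, evY_el] at this
  simpa using this

end Groth.Agent.PullFlat
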