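import Groth.Agent.PullFlat.Cone
import Groth.Agent.PullFlat.Pres
import Groth.Agent.PullFlat.Coeff
import Groth.Agent.EqFlat.Key

/-!
# Tensoring with the presheaf inverse image of a flat module: the local step

If `∑ g(a i) ⊗ μ i = 0` over a single object of `D`, then `∑ a i ⊗ (w, μ i)` is locally zero.
-/

universe u

open CategoryTheory Limits Opposite MonoidalCategory
open scoped TensorProduct

namespace Groth.Agent.PullFlat

open Groth.Agent.ModGroth

variable {C D : Type u} [SmallCategory C] [SmallCategory D] {J : GrothendieckTopology C}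
  {K : GrothendieckTopology D} {O_C : Sheaf J CommRingCat.{u}} {O_D : Sheaf K CommRingCat.{u}}
  (f : ModSite.RMor O_C O_D) (M : ModSite.Mod O_D)

/-- Pure tensor of a section and a class. -/
noncomputable def tc (A : PM O_C) {V : C} {d : D} (a : A.obj (op V)) (v : V ⟶ f.fn.obj d)
    (m : Ms M d) : (A ⊗ pre f M : PM O_C).obj (op V) :=
  a ⊗ₜ[O_C.obj.obj (op V)] cl f M v m

lemma res_tmul (A P : PM O_C) {V W : C} (g : W ⟶ V) (a : A.obj (op V)) (x : P.obj (op V)) :
    res (A ⊗ P : PM O_C) g.op (a ⊗ₜ[O_C.obj.obj (op V)] x) =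
      res A g.op a ⊗ₜ[O_C.obj.obj (op W)] res P g.op x := rfl

lemma res_tc (A : PM O_C) {V W : C} (g : W ⟶ V) {d : D} (a : A.obj (op V)) (v : V ⟶ f.fn.obj d)
    (m : Ms M d) : res (A ⊗ pre f M : PM O_C) g.op (tc f M A a v m) =
      tc f M A (res A g.op a) (g ≫ v) m :=
  (res_tmul A (pre f M) g a _).trans (congrArg (_ ⊗ₜ[O_C.obj.obj (op W)] ·) (res_cl f M g v m))

/-- `Σ` of pure tensors over an object of `D`, through `ψ`. -/
def VanishesAt (B : PM O_C) {W : C} {e : D} (w : W ⟶ f.fn.obj e) {ι : Type u} [Fintype ι]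
    (b : ι → B.obj (op W)) (μ : ι → Ms M e) : Prop :=
  letI : Module (O_D.obj.obj (op e)) (B.obj (op W)) := Module.compHom _ (psi f w)
  ∑ i, b i ⊗ₜ[O_D.obj.obj (op e)] μ i = 0

variable {f M}

theorem loc_zero_of_vanishesAt (hM : ModSite.IsFlat M) {A B : PM O_C} (g : A ⟶ B)
    (hg : ∀ W : Cᵒᵖ, Function.Injective (g.app W)) {W : C} {e : D} (w : W ⟶ f.fn.obj e)
    {ι : Type u} [Fintype ι] (a : ι → A.obj (op W)) (μ : ι → Ms M e)
    (h : VanishesAt f M B w (fun i => g.app (op W) (a i)) μ) :
    Loc J fun Z (k : Z ⟶ W) =>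
      res (A ⊗ pre f M : PM O_C) k.op (∑ i, tc f M A (a i) w (μ i)) = 0 := by
  classical
  let : Module (O_D.obj.obj (op e)) (B.obj (op W)) := Module.compHom _ (psi f w)
  obtain ⟨r, ρ, n, hρ, hn⟩ := exists_coeff (R := O_D.obj.obj (op e)) (fun i => g.app (op W) (a i)) μ h
  let b : ι → B.obj (op W) := fun i => g.app (op W) (a i)
  let Sset : Finset (B.obj (op W)) := Finset.univ.image b ∪ Finset.univ.biUnion fun k => (ρ k).support
  let out := Sset \ Finset.univ.image b
  let row := out.equivFin.symm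
  obtain ⟨T, hT, hT'⟩ := EqFlat.exists_local_trivialisation_matrix hM (U := e) out.card
    (fun i k => ρ k (row i).1) n fun i => by
      rw [← hn, Finset.filter_false_of_mem, Finset.sum_empty]
      intro j _ hj
      exact (Finset.mem_sdiff.1 (row i).2).2 (Finset.mem_image.2 ⟨j, Finset.mem_univ j, hj⟩)
  refine Loc.mono (exists_cover (J := J) K f.fn w hT) fun Z k ⟨e', w', q, hq, hw⟩ => ?_
  obtain ⟨t, S, y, hy, hS⟩ := hT' q hq
  let coef : B.obj (op W) → Fin r → O_C.obj.obj (op Z) :=
    fun c j => psi f w' ((O_D.obj.map q.op).hom (ρ j c))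
  have hout : ∀ c ∈ out, ∀ l, ∑ j, coef c j * psi f w' (S j l) = 0 := by
    intro c hc l
    obtain ⟨i, hi⟩ := row.surjective ⟨c, hc⟩
    have := congrArg (psi f w') (hS i l)
    rw [map_sum, map_zero] at this
    refine Eq.trans ?_ this
    refine Finset.sum_congr rfl fun j _ => ?_
    rw [hi, map_mul]
  have hrel : ∀ j, ∑ c ∈ Sset, coef c j • res B k.op c = 0 := by
    intro j
    have hj : ∑ c ∈ Sset, psi f w (ρ j c) • c = 0 := by
      refine Eq.trans ?_ (hρ j)
      rw [Finsupp.linearCombination_apply, Finsupp.sum_of_support_subset (ρ j) (s := Sset)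
        (fun x hx => Finset.mem_union_right _ (Finset.mem_biUnion.2 ⟨j, Finset.mem_univ j, hx⟩))
        (fun x c => c • id x) fun x _ => zero_smul _ _]
      rfl
    have := congrArg (res B k.op) hj
    rw [map_sum, map_zero] at this
    refine Eq.trans ?_ this
    refine Finset.sum_congr rfl fun c _ => ?_
    rw [res_smul, ← psi_comp, ← hw, psi_map]
  let Im := Finset.univ.image a
  let X : Fin t → A.obj (op Z) := fun l =>
    ∑ c ∈ Im, (∑ j, coef (g.app (op W) c) j * psi f w' (S j l)) • res A k.op c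
  have hX : ∀ l, X l = 0 := by
    intro l
    apply hg (op Z)
    refine Eq.trans ?_ (map_zero _).symm
    refine (map_sum (g.app (op Z)).hom _ _).trans ?_
    have him : Finset.univ.image b = Im.image (g.app (op W)) := (Finset.image_image ..).symm
    refine Eq.trans (b := ∑ c ∈ Im.image (g.app (op W)),
      (∑ j, coef c j * psi f w' (S j l)) • res B k.op c) ?_ ?_
    · rw [Finset.sum_image fun x _ y _ hxy => hg (op W) hxy]
      refine Finset.sum_congr rfl fun c _ => ?_
      refine (map_smul (g.app (op Z)).hom _ _).trans ?_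
      exact congrArg _ (res_app g k.op c)
    rw [← him, Finset.sum_subset (s₂ := Sset) Finset.subset_union_left fun c hc hc' => by
      rw [hout c (Finset.mem_sdiff.2 ⟨hc, hc'⟩) l, zero_smul]]
    simp only [Finset.sum_smul]
    rw [Finset.sum_comm]
    refine Finset.sum_eq_zero fun j _ => ?_
    simp only [mul_comm (coef _ j), ← smul_smul, ← Finset.smul_sum, hrel, smul_zero]
  have hcl : ∀ c ∈ Im, cl f M (k ≫ w) (∑ i ∈ Finset.univ.filter (fun i => a i = c), μ i) =
      ∑ l, (∑ j, coef (g.app (op W) c) j * psi f w' (S j l)) • cl f M w' (y l) := by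
    intro c _
    have e1 : Finset.univ.filter (fun i => a i = c) =
        Finset.univ.filter (fun i => g.app (op W) (a i) = g.app (op W) c) :=
      Finset.filter_congr fun i _ => (hg (op W)).eq_iff.symm
    rw [e1, hn, ← hw, cl_sum]
    simp only [cl_nat, cl_smul, hy, cl_sum, Finset.smul_sum, smul_smul, Finset.sum_smul]
    rw [Finset.sum_comm]
    refine Finset.sum_congr rfl fun l _ => Finset.sum_congr rfl fun j _ => ?_
    simp only [coef, psi_map]
  have hsplit : res (A ⊗ pre f M : PM O_C) k.op (∑ i, tc f M A (a i) w (μ i)) =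
      ∑ c ∈ Im, res A k.op c ⊗ₜ[O_C.obj.obj (op Z)]
        cl f M (k ≫ w) (∑ i ∈ Finset.univ.filter (fun i => a i = c), μ i) := by
    rw [map_sum, ← Finset.sum_fiberwise_of_maps_to (g := a) (t := Im)
      fun i _ => Finset.mem_image_of_mem a (Finset.mem_univ i)]
    refine Finset.sum_congr rfl fun c _ => ?_
    rw [cl_sum]
    refine Eq.trans ?_ (TensorProduct.tmul_sum _ _ _).symm
    refine Finset.sum_congr rfl fun i hi => ?_
    rw [res_tc, (Finset.mem_filter.1 hi).2]
    rfl
  rw [hsplit]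
  refine (Finset.sum_congr rfl fun c hc => (congrArg (res A k.op c ⊗ₜ[O_C.obj.obj (op Z)] ·)
    (hcl c hc)).trans (TensorProduct.tmul_sum _ _ _)).trans ?_
  rw [Finset.sum_comm]
  refine Finset.sum_eq_zero fun l _ => ?_
  refine (Finset.sum_congr rfl fun c _ => (TensorProduct.smul_tmul _ _ _).symm).trans ?_
  refine (TensorProduct.sum_tmul _ _ _).symm.trans ?_
  exact (congrArg (· ⊗ₜ[O_C.obj.obj (op Z)] cl f M w' (y l)) (hX l)).trans (TensorProduct.zero_tmul _ _)

end Groth.Agent.PullFlat
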